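import Cfsg.Agent.Lib.SpSix.Cover
import Cfsg.Agent.Lib.Linear.SymplecticGroup
import Cfsg.Agent.S0765
import Cfsg.Agent.S0245
import Cfsg.Agent.S0269

/-!
# The double cover maps onto `PSp6(2)`
-/

set_option autoImplicit false
set_option maxRecDepth 4000

namespace Cfsg.Lib.SpSix

open Cfsg.Lib.Concrete Matrix Cfsg.Lib.Linear.Symp
open scoped commutatorElement

/-- The symplectic group. -/
abbrev SpGrp : Type := Matrix.symplecticGroup (Fin 3) (ZMod 2)

/-- The vector of a label. -/
def vec (j : Fin 63) : Fin 3 ⊕ Fin 3 → ZMod 2 :=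
  Sum.elim (fun i => if Nat.testBit ((j : ℕ) + 1) i then 1 else 0)
    (fun i => if Nat.testBit ((j : ℕ) + 1) (3 + i) then 1 else 0)

/-- The label of a vector. -/
def cod (v : Fin 3 ⊕ Fin 3 → ZMod 2) : Fin 63 :=
  Fin.ofNat 63 ((v (.inl 0)).val + 2 * (v (.inl 1)).val + 4 * (v (.inl 2)).val + 8 * (v (.inr 0)).val +
    16 * (v (.inr 1)).val + 32 * (v (.inr 2)).val - 1)

theorem cod_vec : ∀ j : Fin 63, cod (vec j) = j ∧ vec j ≠ 0 := by decide +kernel

theorem vec_cod_all : ∀ v : Fin 3 ⊕ Fin 3 → ZMod 2, v ≠ 0 → vec (cod v) = v := by decide +kernel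

theorem mulVec_ne_zero (A : SpGrp) {v : Fin 3 ⊕ Fin 3 → ZMod 2} (hv : v ≠ 0) : A.1 *ᵥ v ≠ 0 := fun h => hv (by
  have := congrArg ((A⁻¹ : SpGrp).1 *ᵥ ·) h
  simpa [Matrix.mulVec_mulVec, ← Submonoid.coe_mul] using this)

/-- The image of a label. -/
def spFun (A : SpGrp) (j : Fin 63) : Fin 63 := cod (A.1 *ᵥ vec j)

theorem spFun_mul (A B : SpGrp) (j : Fin 63) : spFun (A * B) j = spFun A (spFun B j) := by
  rw [spFun, spFun, spFun, vec_cod_all _ (mulVec_ne_zero B (cod_vec j).2), Matrix.mulVec_mulVec, Submonoid.coe_mul]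

theorem spFun_one (j : Fin 63) : spFun 1 j = j := by
  rw [spFun, Submonoid.coe_one, Matrix.one_mulVec, (cod_vec j).1]

/-- The action on non-zero vectors. -/
noncomputable def spRep : SpGrp →* Equiv.Perm (Fin 63) :=
  MonoidHom.mk' (fun A => ⟨spFun A, spFun A⁻¹, fun j => by rw [← spFun_mul, inv_mul_cancel, spFun_one],
    fun j => by rw [← spFun_mul, mul_inv_cancel, spFun_one]⟩) fun A B => Equiv.ext (spFun_mul A B)

theorem spRep_apply (A : SpGrp) (j : Fin 63) : spRep A j = cod (A.1 *ᵥ vec j) := rfl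

theorem spRep_injective : Function.Injective spRep := by
  intro A B h
  refine Subtype.ext (Matrix.ext fun r c => ?_)
  have hne : (Pi.single c 1 : Fin 3 ⊕ Fin 3 → ZMod 2) ≠ 0 := by simp
  have h1 := congrArg vec (Equiv.ext_iff.1 h (cod (Pi.single c 1)))
  rw [spRep_apply, spRep_apply, vec_cod_all _ hne, vec_cod_all _ (mulVec_ne_zero A hne),
    vec_cod_all _ (mulVec_ne_zero B hne)] at h1
  simpa using congrFun h1 r

/-- The matrix of a generator. -/
def genMat (i : Fin 2) : Matrix (Fin 3 ⊕ Fin 3) (Fin 3 ⊕ Fin 3) (ZMod 2) :=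
  Matrix.of fun r c => vec (vPerm i (cod (Pi.single c 1))) r

theorem genMat_ok : ∀ i : Fin 2, genMat i * Matrix.J (Fin 3) (ZMod 2) * (genMat i)ᵀ = Matrix.J (Fin 3) (ZMod 2) ∧
    ∀ j : Fin 63, cod (genMat i *ᵥ vec j) = vPerm i j := by decide +kernel

/-- The transvection formula. -/
def tvVec (w j : Fin 63) : Fin 63 := cod (vec j + (Cfsg.sympForm 3 (ZMod 2) (vec j) (vec w)) • vec w)

theorem tv_table : ∀ w j : Fin 63, vImg (tvWord.getD w []) j = (tvVec w j : ℕ) := by decide +kernel

theorem proj_range : proj.range = spRep.range := by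
  refine le_antisymm ?_ ?_
  · rw [MonoidHom.range_eq_map, ← cGen_closure, MonoidHom.map_closure, Subgroup.closure_le]
    rintro _ ⟨x, hx, rfl⟩
    have key : ∀ i : ℕ, proj (cGen i) ∈ spRep.range := fun i =>
      ⟨⟨genMat (Fin.ofNat 2 i), SymplecticGroup.mem_iff.2 (genMat_ok _).1⟩,
        Equiv.ext fun j => (genMat_ok _).2 j⟩
    rcases hx with rfl | rfl <;> exact key _
  · rw [MonoidHom.range_eq_map (f := spRep), ← Cfsg.Agent.S0765.result (F := ZMod 2) 3, MonoidHom.map_closure,
      Subgroup.closure_le]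
    rintro _ ⟨A, ⟨w, c, hA⟩, rfl⟩
    by_cases h : c = 0 ∨ w = 0
    · have : A = 1 := Subtype.ext (by
        rw [hA, Submonoid.coe_one, Cfsg.sympTransvection]
        rcases h with rfl | rfl <;> simp)
      rw [this, map_one]
      exact one_mem _
    · push_neg at h
      obtain rfl : c = 1 := by revert h; rcases (by decide : ∀ a : ZMod 2, a = 0 ∨ a = 1) c with rfl | rfl <;> simp
      refine ⟨cWord (tvWord.getD (cod w : ℕ) []), Equiv.ext fun j => Fin.ext ?_⟩
      rw [cWord_vec, tv_table, spRep_apply, hA, sympTransvection_mulVec, one_mul, spB_apply, tvVec,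
        vec_cod_all _ h.2]

theorem card_Sp : Nat.card SpGrp = 1451520 := by
  rw [Cfsg.Agent.S0245.result (F := ZMod 2) (q := 2) (by simp) 3]
  simp [Finset.prod_range_succ]

theorem center_Sp : Subgroup.center SpGrp = ⊥ := by
  apply Subgroup.eq_bot_of_card_eq
  rw [Nat.card_congr (Subgroup.centerCongr (spEquiv (m := 3) (F := ZMod 2))).toEquiv,
    card_center (spB_nondegenerate 3 (ZMod 2)) (spB_isAlt 3 (ZMod 2)), Nat.card_eq_fintype_card]
  decide

theorem card_Cov : Nat.card Cov = 2903040 := by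
  have h := proj.ker.card_mul_index
  rw [Subgroup.index_ker, card_ker, proj_range, ← Nat.card_congr (MonoidHom.ofInjective spRep_injective).toEquiv,
    card_Sp] at h
  exact h.symm

/-- The projection onto the symplectic group. -/
noncomputable def toSp : Cov →* SpGrp :=
  ((MonoidHom.ofInjective spRep_injective).symm.toMonoidHom.comp
    (MulEquiv.subgroupCongr proj_range).toMonoidHom).comp proj.rangeRestrict

theorem spRep_toSp (g : Cov) : spRep (toSp g) = proj g := by
  show spRep ((MonoidHom.ofInjective spRep_injective).symm _) = _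
  rw [MonoidHom.apply_ofInjective_symm]
  rfl

/-- The projection onto the projective symplectic group. -/
noncomputable def toPSp : Cov →* Cfsg.PSp 3 (ZMod 2) := (QuotientGroup.mk' _).comp toSp

theorem toPSp_ker : toPSp.ker = proj.ker := by
  ext g
  rw [MonoidHom.mem_ker, MonoidHom.mem_ker, toPSp, MonoidHom.comp_apply, QuotientGroup.mk'_apply,
    QuotientGroup.eq_one_iff, center_Sp, Subgroup.mem_bot, ← spRep_toSp, map_eq_one_iff spRep spRep_injective]

theorem toPSp_stem : IsStemExtension toPSp := by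
  refine ⟨(QuotientGroup.mk'_surjective _).comp fun A => ?_, toPSp_ker ▸ ker_le_center, fun g hg => ?_⟩
  · obtain ⟨g, hg⟩ : spRep A ∈ proj.range := by rw [proj_range]; exact ⟨_, rfl⟩
    exact ⟨g, spRep_injective (by rw [spRep_toSp, hg])⟩
  · rcases ker_cases (show proj g = 1 by rw [← MonoidHom.mem_ker, ← toPSp_ker]; exact hg) with rfl | rfl
    · exact one_mem _
    · exact tau_mem_commutator

theorem perfect_PSp : commutator (Cfsg.PSp 3 (ZMod 2)) = ⊤ := by
  have h := Cfsg.Agent.S0269.result (F := ZMod 2) 3 (Or.inl le_rfl)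
  rw [commutator_def, ← Subgroup.map_top_of_surjective (QuotientGroup.mk' _) (QuotientGroup.mk'_surjective _),
    ← Subgroup.map_commutator, ← commutator_def, h]

end Cfsg.Lib.SpSix
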