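import Cfsg.Agent.Lib.SpMult.Eight
import Cfsg.Prelude.Def_SporadicB

/-!
# The non-split double cover of `Sp6(2)` is unique
-/

set_option autoImplicit false

namespace Cfsg.Lib.SpSix

universe u

theorem toSp_surjective : Function.Surjective toSp := fun A => by
  obtain ⟨g, hg⟩ : spRep A ∈ proj.range := by rw [proj_range]; exact ⟨_, rfl⟩
  exact ⟨g, spRep_injective (by rw [spRep_toSp, hg])⟩

theorem perfect_Sp : commutator SpGrp = ⊤ := Cfsg.Agent.S0269.result (F := ZMod 2) 3 (Or.inl le_rfl)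

/-- A non-split double cover of `Sp6(2)` is a stem extension. -/
theorem stem_of_nonsplit {H : Type u} [Group H] (h : Cfsg.IsNonsplitDoubleCover H SpGrp) :
    ∃ σ : H →* ULift.{u} SpGrp, Cfsg.IsStemExtension σ := by
  obtain ⟨h2, ⟨e⟩, hns⟩ := h
  let σ : H →* ULift.{u} SpGrp :=
    (e.trans MulEquiv.ulift.symm).toMonoidHom.comp (QuotientGroup.mk' (Subgroup.center H))
  have hk : σ.ker = Subgroup.center H := by
    ext x
    rw [MonoidHom.mem_ker]
    exact ((e.trans MulEquiv.ulift.symm).map_eq_one_iff).trans (QuotientGroup.eq_one_iff x)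
  have hsurj : Function.Surjective σ :=
    (e.trans MulEquiv.ulift.symm).surjective.comp (QuotientGroup.mk'_surjective _)
  refine ⟨σ, hsurj, hk.le, hk.trans_le ?_⟩
  by_contra hle
  have hinf : Subgroup.center H ⊓ commutator H = ⊥ := by
    haveI : Finite (Subgroup.center H) := Nat.finite_of_card_ne_zero (by rw [h2]; norm_num)
    have hd := Subgroup.card_dvd_of_le (inf_le_left : Subgroup.center H ⊓ commutator H ≤ Subgroup.center H)
    rw [h2] at hd
    rcases (Nat.dvd_prime Nat.prime_two).1 hd with h1 | h1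
    · exact Subgroup.card_eq_one.1 h1
    · exact absurd (inf_eq_left.1 (Subgroup.eq_of_le_of_card_ge inf_le_left (by rw [h2, h1]))) hle
  refine hns (commutator H) (Subgroup.isComplement'_of_disjoint_and_mul_eq_univ (disjoint_iff.2 hinf) ?_)
  refine Set.eq_univ_of_forall fun x => ?_
  have hx : σ x ∈ (commutator H).map σ := by
    rw [commutator_def, Subgroup.map_commutator, Subgroup.map_top_of_surjective _ hsurj]
    obtain ⟨y, hy⟩ := (MulEquiv.ulift : ULift.{u} SpGrp ≃* SpGrp).symm.surjective (σ x)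
    rw [← hy, ← Subgroup.map_top_of_surjective (MulEquiv.ulift : ULift.{u} SpGrp ≃* SpGrp).symm.toMonoidHom
      (MulEquiv.ulift : ULift.{u} SpGrp ≃* SpGrp).symm.surjective, ← Subgroup.map_commutator]
    exact ⟨y, by rw [← commutator_def, perfect_Sp]; trivial, rfl⟩
  obtain ⟨c, hc, hce⟩ := hx
  refine ⟨x * c⁻¹, ?_, c, hc, inv_mul_cancel_right x c⟩
  show x * c⁻¹ ∈ Subgroup.center H
  rw [← hk, MonoidHom.mem_ker, map_mul, map_inv, hce, mul_inv_cancel]

/-- The non-split double cover of `Sp6(2)` is unique. -/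
theorem cov_unique {H : Type u} [Group H] [Finite H]
    (h : Cfsg.IsNonsplitDoubleCover H (Matrix.symplecticGroup (Fin 3) (ZMod 2))) : Nonempty (H ≃* Cov) := by
  classical
  obtain ⟨σ, hσ⟩ := stem_of_nonsplit h
  let θ : ULift.{u} Cov →* ULift.{u} SpGrp :=
    (MulEquiv.ulift.symm.toMonoidHom.comp toSp).comp MulEquiv.ulift.toMonoidHom
  have hθ : Function.Surjective θ :=
    (MulEquiv.ulift.symm.surjective.comp toSp_surjective).comp MulEquiv.ulift.surjective
  obtain ⟨τ, hτ, -⟩ := Cfsg.Lib.SpMult.lift_of_trivial Cfsg.Lib.SpMult.perfect_uCov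
    (fun Γ _ _ π hπ => Cfsg.Lib.SpMult.noStem_uCov Γ π hπ) θ hθ σ hσ
  have hcard : Nat.card H = Nat.card (ULift.{u} Cov) := by
    obtain ⟨h2, ⟨e⟩, -⟩ := h
    rw [Subgroup.card_eq_card_quotient_mul_card_subgroup (Subgroup.center H), Nat.card_congr e.toEquiv, h2,
      card_Sp, Nat.card_congr (MulEquiv.ulift : ULift.{u} Cov ≃* Cov).toEquiv, card_Cov]
  exact ⟨((MulEquiv.ofBijective τ ((Nat.bijective_iff_surjective_and_card τ).2 ⟨hτ, hcard.symm⟩)).symm.trans
    MulEquiv.ulift)⟩

end Cfsg.Lib.SpSix
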