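import Cfsg.Agent.Lib.SpSix.Cover
import Cfsg.Agent.Lib.J2.StabStem

/-!
# The derived stabiliser of a signed point is `U3(3)`
-/

set_option autoImplicit false
set_option maxRecDepth 4000

namespace Cfsg.Lib.SpSix

open Cfsg.Lib.Concrete
open Cfsg.Lib.J2.Mult (LGrp)
open Cfsg.Lib.J2.Pt (bigPerm)
open scoped commutatorElement

/-- A generator of the stabiliser. -/
def uGen (i : ℕ) : Cov := cWord (uWord i)

/-- A subgroup of the stabiliser of a signed point. -/
def UGrp : Subgroup Cov := Subgroup.closure (Set.range fun i : Fin 2 => uGen i)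

theorem uGen_mem (i : Fin 2) : uGen i ∈ UGrp := Subgroup.subset_closure ⟨i, rfl⟩

theorem uGen_zero : ∀ i : Fin 2, pImg (uWord i) 0 = 0 := by decide +kernel

theorem uGen_tab : ∀ i : Fin 2, ∀ j : Fin 63, vImg (uWord i) j = tget 6 (uTab i) j := by decide +kernel

theorem fix_of_mem {g : Cov} (hg : g ∈ UGrp) : ptAct g 0 = 0 := by
  induction hg using Subgroup.closure_induction with
  | mem g hg =>
    obtain ⟨i, rfl⟩ := hg
    exact Fin.ext (by show (ptAct (cWord (uWord i)) 0 : ℕ) = _; rw [cWord_pt]; exact uGen_zero i)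
  | one => simp
  | mul a b _ _ ha hb => rw [map_mul, Equiv.Perm.mul_apply, hb, ha]
  | inv a _ ha =>
    rw [map_inv]
    conv_lhs => rw [← ha]
    exact (ptAct a).symm_apply_apply 0

/-- The pairs of generators on vectors and on lines. -/
noncomputable def wPair (i : Fin 2) : Equiv.Perm (Fin 63) × Equiv.Perm (Fin 63) := (proj (uGen i), bigPerm i)

/-- The linked group. -/
noncomputable abbrev WGrp : Subgroup (Equiv.Perm (Fin 63) × Equiv.Perm (Fin 63)) :=
  Subgroup.closure (Set.range wPair)

/-- Incidence of lines and vectors. -/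
def inc (l p : ℕ) : Bool := Nat.testBit (tget 63 incTab l) p

theorem inc_gen : ∀ i : Fin 2, ∀ l p : Fin 63,
    inc (Cfsg.Lib.J2.Pt.entry 6 (Cfsg.Lib.J2.Pt.bigPi i) l) (vImg (uWord i) p) = inc l p := by decide +kernel

theorem inc_sep : (∀ l l' : Fin 63, l ≠ l' → ∃ p : Fin 63, inc l p ≠ inc l' p) ∧
    ∀ p p' : Fin 63, p ≠ p' → ∃ l : Fin 63, inc l p ≠ inc l p' := by decide +kernel

theorem inc_mem {g : Equiv.Perm (Fin 63) × Equiv.Perm (Fin 63)} (hg : g ∈ WGrp) :
    ∀ l p : Fin 63, inc (g.2 l) (g.1 p) = inc l p := by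
  induction hg using Subgroup.closure_induction with
  | mem g hg =>
    obtain ⟨i, rfl⟩ := hg
    intro l p
    rw [← inc_gen i l p]
    simp only [wPair, uGen, cWord_vec, Cfsg.Lib.J2.Mult.bigPerm_val]
  | one => intro l p; rfl
  | mul a b _ _ ha hb =>
    intro l p; simp only [Prod.fst_mul, Prod.snd_mul, Equiv.Perm.mul_apply]; rw [ha, hb]
  | inv a _ ha =>
    intro l p
    rw [← ha (a⁻¹.2 l) (a⁻¹.1 p)]
    simp

theorem fst_injective : Function.Injective ((MonoidHom.fst _ _).comp WGrp.subtype) := by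
  refine (injective_iff_map_eq_one _).2 fun g hg => Subtype.ext (Prod.ext hg (Equiv.ext fun l => ?_))
  by_contra h
  obtain ⟨p, hp⟩ := inc_sep.1 _ _ h
  have h2 := inc_mem g.2 l p
  have hg' : (g : Equiv.Perm (Fin 63) × Equiv.Perm (Fin 63)).1 = 1 := hg
  rw [hg'] at h2
  exact hp (by simpa using h2)

theorem snd_injective : Function.Injective ((MonoidHom.snd _ _).comp WGrp.subtype) := by
  refine (injective_iff_map_eq_one _).2 fun g hg => Subtype.ext (Prod.ext (Equiv.ext fun p => ?_) hg)
  by_contra h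
  obtain ⟨l, hl⟩ := inc_sep.2 _ _ h
  have h2 := inc_mem g.2 l p
  have hg' : (g : Equiv.Perm (Fin 63) × Equiv.Perm (Fin 63)).2 = 1 := hg
  rw [hg'] at h2
  exact hl (by simpa using h2)

theorem projU_injective : Function.Injective (proj.comp UGrp.subtype) :=
  (injective_iff_map_eq_one _).2 fun g hg => Subtype.ext (fix_all hg (fix_of_mem g.2))

theorem range_closure {G H : Type} [Group G] [Group H] (f : G →* H) {ι : Type} (s : ι → G) :
    (f.comp (Subgroup.closure (Set.range s)).subtype).range = Subgroup.closure (Set.range fun i => f (s i)) := by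
  rw [MonoidHom.range_comp, Subgroup.range_subtype, MonoidHom.map_closure, ← Set.range_comp]
  rfl

theorem iso_LGrp : Nonempty (UGrp ≃* LGrp) := by
  have h1 : (proj.comp UGrp.subtype).range = ((MonoidHom.fst _ _).comp WGrp.subtype).range := by
    rw [UGrp, range_closure, range_closure]
    rfl
  have h2 : ((MonoidHom.snd _ _).comp WGrp.subtype).range = LGrp := by
    rw [range_closure]
    rfl
  exact ⟨((MonoidHom.ofInjective projU_injective).trans (MulEquiv.subgroupCongr h1)).trans
    ((MonoidHom.ofInjective fst_injective).symm.trans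
      ((MonoidHom.ofInjective snd_injective).trans (MulEquiv.subgroupCongr h2)))⟩

theorem card_UGrp : Nat.card UGrp = 6048 := by
  obtain ⟨e⟩ := iso_LGrp
  rw [Nat.card_congr e.toEquiv, Cfsg.Lib.J2.Mult.card_LGrp]

theorem perfect_UGrp : ⁅UGrp, UGrp⁆ = UGrp := by
  obtain ⟨e⟩ := iso_LGrp
  have h2 : commutator UGrp = ⊤ := by
    rw [commutator_def, ← Subgroup.map_top_of_surjective e.symm.toMonoidHom e.symm.surjective,
      ← Subgroup.map_commutator, ← commutator_def, Cfsg.Lib.J2.Mult.perfect_LGrp,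
      Subgroup.map_top_of_surjective _ e.symm.surjective]
  have h3 := congrArg (Subgroup.map UGrp.subtype) h2
  rwa [commutator_def, Subgroup.map_commutator, ← MonoidHom.range_eq_map, Subgroup.range_subtype] at h3

/-- The image of a vector under a word in the generators of the stabiliser. -/
def uImg (W : List ℕ) (x : ℕ) : ℕ := W.foldr (fun i y => tget 6 (uTab (i % 2)) y) x

theorem uWord_vec (W : List ℕ) (x : Fin 63) :
    (proj (wordProd (fun i => uGen (i % 2)) W) x : ℕ) = uImg W x := by
  induction W with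
  | nil => simp [wordProd, uImg]
  | cons i W ih =>
    rw [show wordProd (fun i => uGen (i % 2)) (i :: W) = uGen (i % 2) * wordProd (fun i => uGen (i % 2)) W by
        simp [wordProd], map_mul, Equiv.Perm.mul_apply, uGen, cWord_vec,
      show uImg (i :: W) x = tget 6 (uTab (i % 2)) (uImg W x) from rfl, ← ih]
    exact uGen_tab ⟨i % 2, Nat.mod_lt _ two_pos⟩ _

theorem uWord_mem (W : List ℕ) : wordProd (fun i => uGen (i % 2)) W ∈ UGrp :=
  Subgroup.list_prod_mem _ fun g hg => by
    obtain ⟨i, -, rfl⟩ := List.mem_map.1 hg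
    exact uGen_mem ⟨i % 2, Nat.mod_lt _ two_pos⟩

end Cfsg.Lib.SpSix
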