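import Cfsg.Agent.Lib.SpSix.Symp
import Cfsg.Agent.Lib.SpSix.Stab
import Cfsg.Agent.Lib.Schur.CoverBound
import Cfsg.Agent.Lib.Linear.PermOrth

/-!
# The Schur multiplier of `PSp6(2)`
-/

set_option autoImplicit false
set_option maxRecDepth 4000

namespace Cfsg.Lib.SpSix

open MulAction Cfsg.Lib.Concrete

/-- The tree word of a point of the certificates. -/
def tWord (x : ℕ) : List ℕ := coverTwo.treeWord coverTwo.N x

/-- A point of the certificates. -/
def pt (x : ℕ) : Cov ⧸ UGrp := (cWord (tWord x) : Cov)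

/-- The check of one edge. -/
def edgeOk (e : ℕ) (u : List ℕ) : Bool :=
  let l := e / 480 :: tWord (e % 480)
  let r := tWord (coverTwo.tab (e / 480) (e % 480))
  Nat.beq (pImg l 0) (pImg r 0) && basisV.all fun j => Nat.beq (vImg l j) (vImg r (uImg u j))

theorem edge_table : (List.range 960).all (fun e => edgeOk e (edgeWord.getD e [])) = true := by decide +kernel

theorem tab_same : ∀ i : Fin 2, ∀ x : Fin 480, coverThree.tab i x = coverTwo.tab i x := by decide +kernel

theorem pt_act (i : ℕ) (hi : i < 2) (x : ℕ) (hx : x < 480) : cGen i • pt x = pt (coverTwo.tab i x) := by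
  have h := edge_table
  simp only [List.all_eq_true, List.mem_range] at h
  have h' := h (480 * i + x) (by omega)
  simp only [edgeOk, Bool.and_eq_true, List.all_eq_true, Nat.beq_eq] at h'
  rw [show (480 * i + x) / 480 = i by omega, show (480 * i + x) % 480 = x by omega] at h'
  obtain ⟨h0, hb⟩ := h'
  set u := wordProd (fun k => uGen (k % 2)) (edgeWord.getD (480 * i + x) []) with hu
  have e : cWord (i :: tWord x) = cWord (tWord (coverTwo.tab i x)) * u := by
    refine ext_seven (Fin.ext ?_) fun j hj => Fin.ext ?_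
    · rw [map_mul, Equiv.Perm.mul_apply, fix_of_mem (uWord_mem _), cWord_pt, cWord_pt]
      exact h0
    · rw [map_mul, Equiv.Perm.mul_apply, cWord_vec, cWord_vec, hu, uWord_vec]
      exact hb j hj
  show ((cGen i * cWord (tWord x) : Cov) : Cov ⧸ UGrp) = _
  rw [show cGen i * cWord (tWord x) = cWord (i :: tWord x) by simp [cWord, wordProd], e]
  exact QuotientGroup.mk_mul_of_mem _ (uWord_mem _)

theorem pt_zero : pt 0 = ((1 : Cov) : Cov ⧸ UGrp) := by
  have : tWord 0 = [] := by decide +kernel
  rw [pt, this]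
  simp [cWord, wordProd]

theorem stab_pt : stabilizer Cov (pt 0) = UGrp := by
  rw [pt_zero]
  exact MulAction.stabilizer_quotient UGrp

theorem coverTwo_check : coverTwo.check (xorVec coverTwo.m) = true := by decide +kernel

instance fact_one_lt_three : Fact (1 < 3) := ⟨by norm_num⟩

theorem coverThree_check : coverThree.check (digitVec 3 coverThree.m) = true := by decide +kernel

theorem pt_sep (y : ℕ) (hy : y < 480) (h : pt y = pt 0) : y = 0 := by
  have hsh := StemPerm.shape_of_check _ coverTwo_check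
  have ho := StemPerm.orbit_eq coverTwo hsh pt cGen cGen_closure pt_act
  have hcard : Nat.card (Cov ⧸ UGrp) = 480 := by
    have h2 := UGrp.card_mul_index
    rw [card_UGrp, card_Cov, Subgroup.index_eq_card] at h2
    omega
  have hsurj : Function.Surjective fun a : Fin 480 => pt a := fun w => by
    have : w ∈ orbit Cov (pt 0) := by
      rw [MulAction.orbit_eq_univ]; trivial
    rw [ho] at this
    obtain ⟨x, hx, rfl⟩ := this
    exact ⟨⟨x, hx⟩, rfl⟩
  have hbij : Function.Bijective fun a : Fin 480 => pt a :=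
    (Nat.bijective_iff_surjective_and_card _).2 ⟨hsurj, by simp [hcard]⟩
  exact congrArg Fin.val (@hbij.1 ⟨y, hy⟩ ⟨0, by norm_num⟩ h)

theorem rels_seven : (coverTwo.rels ++ coverThree.rels).all (fun W =>
    Nat.beq (pImg W 0) 0 && basisV.all fun j => Nat.beq (vImg W j) j) = true := by decide +kernel

theorem rels_ok {W : List ℕ} (hW : W ∈ coverTwo.rels ++ coverThree.rels) : wordProd cGen W = 1 := by
  have h := rels_seven
  simp only [List.all_eq_true, Bool.and_eq_true, Nat.beq_eq] at h
  obtain ⟨h0, hb⟩ := h W hW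
  refine ext_seven (Fin.ext ?_) fun j hj => Fin.ext ?_
  · show (ptAct (cWord W) 0 : ℕ) = _
    rw [cWord_pt, map_one]
    exact h0
  · show (proj (cWord W) j : ℕ) = _
    rw [cWord_vec, map_one]
    exact hb j hj

theorem noStem_Cov (p : ℕ) (hp : p.Prime) : NoStem p Cov := by
  haveI := Fact.mk hp
  obtain ⟨e⟩ := iso_LGrp
  by_cases h2 : p = 2
  · subst h2
    refine noStem_of_cert coverTwo (xorVec _) coverTwo_check pt cGen cGen_closure pt_act pt_sep
      (fun W hW => rels_ok (List.mem_append_left _ hW)) ?_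
    rw [stab_pt]
    exact liftsAt_of_noStem hp perfect_UGrp (NoStem.of_equiv e.symm Cfsg.Lib.J2.Mult.noStem_two)
  by_cases h3 : p = 3
  · subst h3
    refine noStem_of_cert coverThree (digitVec 3 _) coverThree_check pt cGen cGen_closure (fun i hi x hx => ?_)
      pt_sep (fun W hW => rels_ok (List.mem_append_right _ hW)) ?_
    · rw [tab_same ⟨i, hi⟩ ⟨x, hx⟩]; exact pt_act i hi x hx
    · rw [stab_pt]
      exact liftsAt_of_noStem hp perfect_UGrp (NoStem.of_equiv e.symm Cfsg.Lib.J2.Mult.noStem_three)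
  refine noStem_of_not_sq_dvd hp fun hd => ?_
  rw [card_Cov] at hd
  have h1 : p ∣ 2903040 := (dvd_pow_self p two_ne_zero).trans hd
  rw [show (2903040 : ℕ) = 2 ^ 10 * (3 ^ 4 * (5 * 7)) by norm_num] at h1
  rcases hp.dvd_mul.1 h1 with h | h
  · exact h2 ((Nat.prime_dvd_prime_iff_eq hp Nat.prime_two).1 (hp.dvd_of_dvd_pow h))
  rcases hp.dvd_mul.1 h with h | h
  · exact h3 ((Nat.prime_dvd_prime_iff_eq hp Nat.prime_three).1 (hp.dvd_of_dvd_pow h))
  rcases hp.dvd_mul.1 h with h | h
  · obtain rfl := (Nat.prime_dvd_prime_iff_eq hp (by norm_num)).1 h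
    norm_num at hd
  · obtain rfl := (Nat.prime_dvd_prime_iff_eq hp (by norm_num)).1 h
    norm_num at hd

theorem multiplier : Cfsg.HasCyclicSchurMultiplier (Cfsg.PSp 3 (ZMod 2)) 2 := by
  have hk2 : Nat.card toPSp.ker = 2 := by rw [toPSp_ker, card_ker]
  haveI : Fact (Nat.Prime 2) := ⟨Nat.prime_two⟩
  haveI := isCyclic_of_prime_card hk2
  exact Schur.hasSchurMultiplier_of_cover perfect_PSp toPSp_stem noStem_Cov
    ((zmodCyclicMulEquiv (G := toPSp.ker) inferInstance).symm.trans
      (AddEquiv.toMultiplicative (ZMod.ringEquivCongr hk2).toAddEquiv))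

universe u

/-- The multiplier of a finite group is the same in every universe. -/
theorem hasSchur_of_equiv {G : Type} [Group G] {H : Type u} [Group H] (e : G ≃* H) {A : Type} [CommGroup A]
    (h : HasSchurMultiplier G A) : HasSchurMultiplier H A := by
  obtain ⟨⟨Γ, _, _, σ, ⟨h1, h2, h3⟩, ⟨i⟩⟩, hu⟩ := h
  refine ⟨?_, fun Δ _ _ τ hτ => ?_⟩
  · let eu : ULift.{u} Γ ≃* Γ := MulEquiv.ulift
    let σ' : ULift.{u} Γ →* H := e.toMonoidHom.comp (σ.comp eu.toMonoidHom)
    have hk : σ'.ker = σ.ker.map eu.symm.toMonoidHom := by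
      ext x
      simp [σ', MonoidHom.mem_ker, Subgroup.mem_map_equiv]
    refine ⟨ULift.{u} Γ, inferInstance, inferInstance, σ',
      ⟨e.surjective.comp (h1.comp eu.surjective), ?_, ?_⟩,
      ⟨((MulEquiv.subgroupCongr hk).trans (eu.symm.subgroupMap σ.ker).symm).trans i⟩⟩
    · rw [hk]
      rintro _ ⟨x, hx, rfl⟩
      refine Subgroup.mem_center_iff.2 fun y => ?_
      apply eu.injective
      simpa using Subgroup.mem_center_iff.1 (h2 hx) (eu y)
    · rw [hk, commutator_def, ← Subgroup.map_top_of_surjective eu.symm.toMonoidHom eu.symm.surjective,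
        ← Subgroup.map_commutator, ← commutator_def]
      exact Subgroup.map_mono h3
  · haveI : Small.{0} Δ := inferInstance
    let ed : Shrink.{0} Δ ≃* Δ := Shrink.mulEquiv
    haveI : Finite (Shrink.{0} Δ) := Finite.of_equiv Δ ed.symm.toEquiv
    let τ' : Shrink.{0} Δ →* G := e.symm.toMonoidHom.comp (τ.comp ed.toMonoidHom)
    have hk : τ'.ker = τ.ker.map ed.symm.toMonoidHom := by
      ext x
      simp [τ', MonoidHom.mem_ker, Subgroup.mem_map_equiv]
    obtain ⟨π, hπ⟩ := hu (Shrink.{0} Δ) τ' ⟨e.symm.surjective.comp (hτ.1.comp ed.surjective), by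
        rw [hk]
        rintro _ ⟨x, hx, rfl⟩
        refine Subgroup.mem_center_iff.2 fun y => ?_
        apply ed.injective
        simpa using Subgroup.mem_center_iff.1 (hτ.2.1 hx) (ed y), by
        rw [hk, commutator_def, ← Subgroup.map_top_of_surjective ed.symm.toMonoidHom ed.symm.surjective,
          ← Subgroup.map_commutator, ← commutator_def]
        exact Subgroup.map_mono hτ.2.2⟩
    let g : τ'.ker ≃* τ.ker := (MulEquiv.subgroupCongr hk).trans (ed.symm.subgroupMap τ.ker).symm
    exact ⟨g.toMonoidHom.comp π, g.surjective.comp hπ⟩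

theorem multiplier_PSp {F : Type u} [Field F] [Fintype F] (hF : Fintype.card F = 2) :
    Cfsg.HasCyclicSchurMultiplier (Cfsg.PSp 3 F) 2 := by
  obtain ⟨e⟩ := Cfsg.Lib.Linear.PermModule.symp_equiv (ZMod.ringEquivOfPrime F Nat.prime_two hF) 3
  refine hasSchur_of_equiv (QuotientGroup.congr _ _ e ?_) multiplier
  ext x
  refine ⟨?_, fun hx => ⟨e.symm x, Subgroup.mem_center_iff.2 fun y => e.injective ?_, e.apply_symm_apply x⟩⟩
  · rintro ⟨z, hz, rfl⟩
    refine Subgroup.mem_center_iff.2 fun y => ?_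
    obtain ⟨w, rfl⟩ := e.surjective y
    simpa using congrArg e (Subgroup.mem_center_iff.1 hz w)
  · simpa using Subgroup.mem_center_iff.1 hx (e y)

end Cfsg.Lib.SpSix
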