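import Cfsg.Agent.Lib.SpSix.Data
import Cfsg.Agent.Lib.Concrete.StemPerm
import Cfsg.Agent.Lib.Concrete.ReachMask

/-!
# A double cover of `Sp6(2)` acting on two hundred and forty signed points and on the non-zero vectors
-/

set_option autoImplicit false
set_option maxRecDepth 4000
set_option linter.unusedSimpArgs false

namespace Cfsg.Lib.SpSix

open Cfsg.Lib.Concrete
open scoped commutatorElement

/-- An entry of a generator table on points. -/
def pV (i x : ℕ) : ℕ := tget 8 (ptTab i) x

/-- An entry of an inverse table on points. -/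
def pW (i x : ℕ) : ℕ := tget 8 (ptInv i) x

/-- An entry of a generator table on vectors. -/
def vV (i x : ℕ) : ℕ := tget 6 (vTab i) x

/-- An entry of an inverse table on vectors. -/
def vW (i x : ℕ) : ℕ := tget 6 (vInv i) x

theorem pt_tables : ∀ i : Fin 2, ∀ x : Fin 240, pV i x < 240 ∧ pW i x < 240 ∧ pV i (pW i x) = x ∧ pW i (pV i x) = x := by
  decide +kernel

theorem vec_tables : ∀ i : Fin 2, ∀ x : Fin 63, vV i x < 63 ∧ vW i x < 63 ∧ vV i (vW i x) = x ∧ vW i (vV i x) = x := by
  decide +kernel

/-- A generator on signed points. -/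
def ptPerm (i : Fin 2) : Equiv.Perm (Fin 240) where
  toFun x := ⟨pV i x, (pt_tables i x).1⟩
  invFun x := ⟨pW i x, (pt_tables i x).2.1⟩
  left_inv x := Fin.ext (pt_tables i x).2.2.2
  right_inv x := Fin.ext (pt_tables i x).2.2.1

/-- A generator on vectors. -/
def vPerm (i : Fin 2) : Equiv.Perm (Fin 63) where
  toFun x := ⟨vV i x, (vec_tables i x).1⟩
  invFun x := ⟨vW i x, (vec_tables i x).2.1⟩
  left_inv x := Fin.ext (vec_tables i x).2.2.2
  right_inv x := Fin.ext (vec_tables i x).2.2.1

/-- A generator of the cover. -/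
def cPair (i : Fin 2) : Equiv.Perm (Fin 240) × Equiv.Perm (Fin 63) := (ptPerm i, vPerm i)

/-- The cover. -/
abbrev Cov : Subgroup (Equiv.Perm (Fin 240) × Equiv.Perm (Fin 63)) := Subgroup.closure (Set.range cPair)

/-- The generators as elements. -/
def cGen (i : ℕ) : Cov := ⟨cPair (Fin.ofNat 2 i), Subgroup.subset_closure ⟨_, rfl⟩⟩

theorem cGen_closure : Subgroup.closure {g | g = cGen 0 ∨ g = cGen 1} = ⊤ := by
  refine top_le_iff.1 ?_
  rw [← Subgroup.closure_closure_coe_preimage]
  refine Subgroup.closure_mono ?_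
  rintro ⟨x, hx⟩ ⟨i, hi⟩
  have hi' : cPair i = x := hi
  fin_cases i
  · exact Or.inl (Subtype.ext hi'.symm)
  · exact Or.inr (Subtype.ext hi'.symm)

/-- The value of a word. -/
def cWord (W : List ℕ) : Cov := wordProd cGen W

/-- The sign change of a point. -/
def flipPt (x : Fin 240) : Fin 240 := ⟨((x : ℕ) + 120) % 240, Nat.mod_lt _ (by norm_num)⟩

/-- The point without its sign. -/
def basePt (x : Fin 240) : Fin 120 := ⟨(x : ℕ) % 120, Nat.mod_lt _ (by norm_num)⟩

/-- The positive point. -/
def liftPt (p : Fin 120) : Fin 240 := ⟨(p : ℕ), by omega⟩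

theorem flip_flip (x : Fin 240) : flipPt (flipPt x) = x := Fin.ext (by simp only [flipPt]; omega)

theorem base_flip (x : Fin 240) : basePt (flipPt x) = basePt x := Fin.ext (by simp only [flipPt, basePt]; omega)

theorem base_lift (p : Fin 120) : basePt (liftPt p) = p := Fin.ext (by simp only [liftPt, basePt]; omega)

theorem lift_cases (x : Fin 240) : x = liftPt (basePt x) ∨ x = flipPt (liftPt (basePt x)) := by
  by_cases h : (x : ℕ) < 120
  · exact Or.inl (Fin.ext (by simp only [liftPt, basePt]; omega))
  · exact Or.inr (Fin.ext (by simp only [flipPt, liftPt, basePt]; omega))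

theorem cases_of_base_eq {x y : Fin 240} (h : basePt x = basePt y) : x = y ∨ x = flipPt y := by
  rcases lift_cases x with hx | hx <;> rcases lift_cases y with hy | hy <;> rw [h] at hx
  · exact Or.inl (hx.trans hy.symm)
  · exact Or.inr (hx.trans ((congrArg flipPt hy).trans (flip_flip _)).symm)
  · exact Or.inr (hx.trans (congrArg flipPt hy.symm))
  · exact Or.inl (hx.trans hy.symm)

/-- Adjacency of signed points. -/
def adj (x y : ℕ) : Bool := Nat.testBit (tget 240 adjMask x) y

/-- The sum of two distinct non-zero vectors. -/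
def addV (u v : Fin 63) : Fin 63 := Fin.ofNat 63 (Nat.xor ((u : ℕ) + 1) ((v : ℕ) + 1) - 1)

/-- A transvection on pairs of signed points. -/
def tvP (v : Fin 63) (p : Fin 120) : Fin 120 := Fin.ofNat 120 (tget 7 tvPairTab (120 * (v : ℕ) + p))

theorem gen_flip : ∀ i : Fin 2, ∀ x : Fin 240, ptPerm i (flipPt x) = flipPt (ptPerm i x) := by decide +kernel

theorem gen_adj : (List.range 2).all (fun i => (List.range 240).all fun x => (List.range 240).all fun y =>
    adj x y == adj (pV i x) (pV i y)) = true := by decide +kernel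

theorem gen_add : ∀ i : Fin 2, ∀ u v : Fin 63, u ≠ v → vPerm i (addV u v) = addV (vPerm i u) (vPerm i v) := by
  decide +kernel

theorem gen_tv : ∀ i : Fin 2, ∀ v : Fin 63, ∀ x : Fin 240,
    basePt (ptPerm i (liftPt (tvP v (basePt x)))) = tvP (vPerm i v) (basePt (ptPerm i x)) := by decide +kernel

/-- The invariants of the cover. -/
structure Good (g : Equiv.Perm (Fin 240) × Equiv.Perm (Fin 63)) : Prop where
  flipEq : ∀ x, g.1 (flipPt x) = flipPt (g.1 x)
  adjEq : ∀ x y : Fin 240, adj (g.1 x) (g.1 y) = adj x y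
  addEq : ∀ u v, u ≠ v → g.2 (addV u v) = addV (g.2 u) (g.2 v)
  tvEq : ∀ v x, basePt (g.1 (liftPt (tvP v (basePt x)))) = tvP (g.2 v) (basePt (g.1 x))

theorem base_congr {g : Equiv.Perm (Fin 240)} (hg : ∀ x, g (flipPt x) = flipPt (g x)) {x y : Fin 240}
    (h : basePt x = basePt y) : basePt (g x) = basePt (g y) := by
  rcases cases_of_base_eq h with rfl | rfl
  · rfl
  · rw [hg, base_flip]

theorem good_gen (i : Fin 2) : Good (cPair i) := by
  refine ⟨gen_flip i, fun x y => ?_, gen_add i, gen_tv i⟩
  have h := gen_adj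
  simp only [List.all_eq_true, List.mem_range, beq_iff_eq] at h
  exact (h i i.isLt x x.isLt y y.isLt).symm

theorem good_mem {g : Equiv.Perm (Fin 240) × Equiv.Perm (Fin 63)} (hg : g ∈ Cov) : Good g := by
  have hg' : g ∈ Submonoid.closure (Set.range cPair) := by
    rw [← Subgroup.closure_toSubmonoid_of_finite]; exact hg
  clear hg
  induction hg' using Submonoid.closure_induction with
  | mem g hg => obtain ⟨i, rfl⟩ := hg; exact good_gen i
  | one => exact ⟨fun _ => rfl, fun _ _ => rfl, fun _ _ _ => rfl, fun _ x => by simp [base_lift]⟩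
  | mul a b _ _ ha hb =>
    refine ⟨fun x => ?_, fun x y => ?_, fun u v h => ?_, fun v x => ?_⟩
    · simp only [Prod.fst_mul, Equiv.Perm.mul_apply, hb.flipEq, ha.flipEq]
    · simp only [Prod.fst_mul, Equiv.Perm.mul_apply, ha.adjEq, hb.adjEq]
    · simp only [Prod.snd_mul, Equiv.Perm.mul_apply]
      rw [hb.addEq u v h, ha.addEq _ _ (b.2.injective.ne h)]
    · simp only [Prod.fst_mul, Prod.snd_mul, Equiv.Perm.mul_apply]
      rw [← ha.tvEq (b.2 v) (b.1 x)]
      exact base_congr ha.flipEq (by rw [hb.tvEq, base_lift])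

/-- The action on vectors. -/
def proj : Cov →* Equiv.Perm (Fin 63) := (MonoidHom.snd _ _).comp Cov.subtype

theorem proj_apply (g : Cov) : proj g = (g : Equiv.Perm (Fin 240) × Equiv.Perm (Fin 63)).2 := rfl

/-- The action on signed points. -/
def ptAct : Cov →* Equiv.Perm (Fin 240) := (MonoidHom.fst _ _).comp Cov.subtype

theorem ptAct_apply (g : Cov) : ptAct g = (g : Equiv.Perm (Fin 240) × Equiv.Perm (Fin 63)).1 := rfl

/-- The six basis vectors. -/
def basisV : List (Fin 63) := [0, 1, 3, 7, 15, 31]

/-- The leading basis vector of a vector. -/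
def topV (j : Fin 63) : Fin 63 :=
  if 31 ≤ (j : ℕ) then 31 else if 15 ≤ (j : ℕ) then 15 else if 7 ≤ (j : ℕ) then 7 else
    if 3 ≤ (j : ℕ) then 3 else if 1 ≤ (j : ℕ) then 1 else 0

theorem basis_spans : ∀ j : Fin 63, j ∈ basisV ∨
    (topV j ∈ basisV ∧ (addV (topV j) j : ℕ) < j ∧ topV j ≠ addV (topV j) j ∧ addV (topV j) (addV (topV j) j) = j) := by
  decide +kernel

theorem eq_of_basis {g h : Cov} (hb : ∀ j ∈ basisV, proj g j = proj h j) : proj g = proj h := by
  refine Equiv.ext fun j => ?_
  suffices ∀ n : ℕ, ∀ j : Fin 63, (j : ℕ) = n → proj g j = proj h j from this _ j rfl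
  intro n
  induction n using Nat.strong_induction_on with
  | _ n ih =>
    intro j hj
    rcases basis_spans j with h1 | ⟨h1, h2, h3, h4⟩
    · exact hb j h1
    · have e := ih _ (hj ▸ h2) (addV (topV j) j) rfl
      have eg := (good_mem g.2).addEq _ _ h3
      have eh := (good_mem h.2).addEq _ _ h3
      simp only [← proj_apply, h4] at eg eh
      rw [eg, eh, e, hb _ h1]

/-- A product of transvections on pairs. -/
def tvWalk (W : List ℕ) (p : Fin 120) : Fin 120 := W.foldr (fun v q => tvP (Fin.ofNat 63 v) q) p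

theorem fix_words : (∀ W ∈ fixWord, tvWalk W 0 = 0) ∧
    ∀ y : Fin 120, (∀ W ∈ fixWord, tvWalk W y = y) → y = 0 := by decide +kernel

theorem pairs_connected : ∀ p : Fin 120, Nat.testBit (ReachMask.reach 120
    ((List.range 63).map fun v c => (tvP (Fin.ofNat 63 v) (Fin.ofNat 120 c) : ℕ)) 3 1) p = true := by decide +kernel

theorem fix_pairs {g : Cov} (hg : proj g = 1) (x : Fin 240) : basePt (ptAct g x) = basePt x := by
  have hG := good_mem g.2
  set q : Fin 120 → Fin 120 := fun p => basePt (ptAct g (liftPt p)) with hq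
  have hstep : ∀ v p, q (tvP v p) = tvP v (q p) := fun v p => by
    have h := hG.tvEq v (liftPt p)
    rw [← proj_apply, hg, base_lift] at h
    exact h
  have hwalk : ∀ W : List ℕ, ∀ p, q (tvWalk W p) = tvWalk W (q p) := by
    intro W p
    induction W with
    | nil => rfl
    | cons v W ih => simp only [tvWalk, List.foldr_cons] at ih ⊢; rw [hstep, ih]
  have h0 : q 0 = 0 := fix_words.2 _ fun W hW => by rw [← hwalk, fix_words.1 W hW]
  have hall : ∀ p : Fin 120, q p = p := fun p => by
    have h := ReachMask.reach_sound (N := 120)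
      (fs := (List.range 63).map fun v c => (tvP (Fin.ofNat 63 v) (Fin.ofNat 120 c) : ℕ))
      (P := fun c => ∀ hc : c < 120, q ⟨c, hc⟩ = ⟨c, hc⟩)
      (fun c hc hP f hf hfc => ?_) 3 1 (fun c hc hc' => ?_) p (pairs_connected p) p.isLt
    · exact h
    · obtain ⟨v, -, rfl⟩ := List.mem_map.mp hf
      have e : Fin.ofNat 120 c = (⟨c, hc⟩ : Fin 120) := Fin.ext (Nat.mod_eq_of_lt hc)
      have he := hstep (Fin.ofNat 63 v) ⟨c, hc⟩
      rw [hP hc, ← e] at he
      exact he
    · rw [show (1 : ℕ) = 2 ^ 0 from rfl, Nat.testBit_two_pow, decide_eq_true_iff] at hc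
      subst hc
      exact h0
  have := base_congr hG.flipEq (base_lift (basePt x)).symm
  exact this.trans (hall _)

/-- A step along an edge. -/
def stepFun (k c : ℕ) : ℕ := if adj c ((c + k) % 240) then (c + k) % 240 else c

theorem adj_connected : ∀ x : Fin 240,
    Nat.testBit (ReachMask.reach 240 ((List.range 240).map stepFun) 4 1) x = true := by decide +kernel

theorem adj_separate : (List.range 240).all (fun x => (List.range 240).all fun y =>
    !(adj x y && adj x ((y + 120) % 240))) = true := by decide +kernel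

theorem fix_all {g : Cov} (hπ : proj g = 1) (h0 : ptAct g 0 = 0) : g = 1 := by
  have hG := good_mem g.2
  have hall : ∀ x : Fin 240, ptAct g x = x := by
    intro x
    have h := ReachMask.reach_sound (N := 240) (fs := (List.range 240).map stepFun)
      (P := fun c => ∀ hc : c < 240, ptAct g ⟨c, hc⟩ = ⟨c, hc⟩)
      (fun c hc hP f hf hfc => ?_) 4 1 (fun c hc hc' => ?_) x (adj_connected x) x.isLt
    · exact h
    · obtain ⟨k, -, rfl⟩ := List.mem_map.mp hf
      by_cases hadj : adj c ((c + k) % 240) = true
      · have hs : stepFun k c = (c + k) % 240 := by simp [stepFun, hadj]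
        rcases cases_of_base_eq (fix_pairs hπ ⟨stepFun k c, hfc⟩) with e | e
        · exact e
        · exfalso
          have h1 := hG.adjEq ⟨c, hc⟩ ⟨stepFun k c, hfc⟩
          have e' := congrArg Fin.val e
          simp only [← ptAct_apply, hP hc] at h1
          rw [e'] at h1
          simp only [flipPt, hs] at h1
          have h2 := adj_separate
          simp only [List.all_eq_true, List.mem_range, Bool.not_eq_true', Bool.and_eq_false_iff] at h2
          rcases h2 c hc ((c + k) % 240) (Nat.mod_lt _ (by norm_num)) with h3 | h3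
          · rw [hadj] at h3; exact Bool.noConfusion h3
          · rw [h3, hadj] at h1; exact Bool.noConfusion h1
      · have hs : stepFun k c = c := by simp [stepFun, hadj]
        simp only [hs]
        exact hP hc
    · rw [show (1 : ℕ) = 2 ^ 0 from rfl, Nat.testBit_two_pow, decide_eq_true_iff] at hc
      subst hc
      exact h0
  exact Subtype.ext (Prod.ext (Equiv.ext hall) hπ)

/-- An element is known from seven values. -/
theorem ext_seven {g h : Cov} (h0 : ptAct g 0 = ptAct h 0) (hb : ∀ j ∈ basisV, proj g j = proj h j) : g = h := by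
  refine (inv_mul_eq_one.1 (fix_all ?_ ?_)).symm
  · rw [map_mul, map_inv, ← eq_of_basis hb, inv_mul_cancel]
  · rw [map_mul, map_inv, Equiv.Perm.mul_apply, h0, Equiv.Perm.inv_def, Equiv.symm_apply_apply]

/-- The sign change. -/
def tau : Cov := ⁅cWord tauU, cWord tauV⁆ ^ tauExp

theorem tau_values : (∀ x : Fin 240, ptAct tau x = flipPt x) ∧ ∀ j : Fin 63, proj tau j = j := by decide +kernel

theorem proj_tau : proj tau = 1 := Equiv.ext tau_values.2

theorem ker_cases {g : Cov} (hg : proj g = 1) : g = 1 ∨ g = tau := by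
  rcases cases_of_base_eq (fix_pairs hg 0) with h | h
  · exact Or.inl (fix_all hg h)
  · refine Or.inr (ext_seven (h.trans (tau_values.1 0).symm) fun j _ => ?_)
    rw [hg, proj_tau]

theorem tau_ne_one : tau ≠ 1 := fun h => by
  have := congrArg Fin.val (tau_values.1 0)
  rw [h, map_one] at this
  simp [flipPt] at this

theorem card_ker : Nat.card proj.ker = 2 := by
  have h : (proj.ker : Set Cov) = {1, tau} := Set.ext fun g =>
    ⟨fun hg => ker_cases hg, fun hg => by rcases hg with rfl | rfl; exacts [one_mem _, proj_tau]⟩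
  rw [← SetLike.coe_sort_coe, Nat.card_coe_set_eq, h, Set.ncard_pair tau_ne_one.symm]

theorem ker_le_center : proj.ker ≤ Subgroup.center Cov := by
  intro g hg
  rcases ker_cases hg with rfl | rfl
  · exact one_mem _
  · refine Subgroup.mem_center_iff.2 fun x => ext_seven ?_ fun j _ => ?_
    · rw [map_mul, map_mul, Equiv.Perm.mul_apply, Equiv.Perm.mul_apply, tau_values.1, tau_values.1,
        ptAct_apply x, (good_mem x.2).flipEq]
    · rw [map_mul, map_mul, proj_tau, one_mul, mul_one]

theorem tau_mem_commutator : tau ∈ commutator Cov := by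
  rw [tau, commutator_def]
  exact pow_mem (Subgroup.commutator_mem_commutator (Subgroup.mem_top _) (Subgroup.mem_top _)) _

/-- The image of a signed point under a word. -/
def pImg (W : List ℕ) (x : ℕ) : ℕ := W.foldr (fun i y => pV (i % 2) y) x

/-- The image of a vector under a word. -/
def vImg (W : List ℕ) (x : ℕ) : ℕ := W.foldr (fun i y => vV (i % 2) y) x

theorem cWord_pt (W : List ℕ) (x : Fin 240) : (ptAct (cWord W) x : ℕ) = pImg W x := by
  induction W with
  | nil => simp [cWord, wordProd, pImg]
  | cons i W ih =>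
    rw [show cWord (i :: W) = cGen i * cWord W by simp [cWord, wordProd], map_mul, Equiv.Perm.mul_apply,
      show pImg (i :: W) x = pV (i % 2) (pImg W x) from rfl, ← ih]
    rfl

theorem cWord_vec (W : List ℕ) (x : Fin 63) : (proj (cWord W) x : ℕ) = vImg W x := by
  induction W with
  | nil => simp [cWord, wordProd, vImg]
  | cons i W ih =>
    rw [show cWord (i :: W) = cGen i * cWord W by simp [cWord, wordProd], map_mul, Equiv.Perm.mul_apply,
      show vImg (i :: W) x = vV (i % 2) (vImg W x) from rfl, ← ih]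
    rfl

end Cfsg.Lib.SpSix
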